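import Mathlib
import Cfsg.Agent.Lib.Helper36.Stb.Defs

set_option autoImplicit false

namespace Cfsg.Agent.Lib.Helper27.Stb

universe v

/-- Package ALT of the STB project: the alternating sum over the subsets `J` of `R` of the sums of
`f` over the `w` with `J ⊆ asc w` is the value of `f` at the unique `w0` with empty `asc`. -/
theorem pkgAlt : Cfsg.Agent.Lib.Helper36.Stb.PkgAlt.{v} := by
  classical
  intro ι W R asc f w0 hw0 hsub huniq hw0e
  have h1 : ∀ J ∈ R.powerset,
      (-1 : ℂ) ^ J.card * (∑ w ∈ W.filter (fun w => J ⊆ asc w), f w)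
        = ∑ w ∈ W, if J ⊆ asc w then (-1 : ℂ) ^ J.card * f w else 0 := by
    intro J _
    rw [Finset.mul_sum, Finset.sum_filter]
  rw [Finset.sum_congr rfl h1, Finset.sum_comm]
  have h2 : ∀ w ∈ W,
      (∑ J ∈ R.powerset, if J ⊆ asc w then (-1 : ℂ) ^ J.card * f w else 0)
        = if asc w = ∅ then f w else 0 := by
    intro w hw
    have hs : (R.powerset.filter (fun J => J ⊆ asc w)) = (asc w).powerset := by
      ext J
      simp only [Finset.mem_filter, Finset.mem_powerset]
      exact ⟨fun h => h.2, fun h => ⟨h.trans (hsub w hw), h⟩⟩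
    rw [← Finset.sum_filter, hs, ← Finset.sum_mul]
    have h3 : (∑ J ∈ (asc w).powerset, (-1 : ℂ) ^ J.card) = if asc w = ∅ then 1 else 0 := by
      have := Finset.sum_powerset_neg_one_pow_card (x := asc w)
      have h4 : ((∑ J ∈ (asc w).powerset, (-1 : ℤ) ^ J.card : ℤ) : ℂ)
          = ((if asc w = ∅ then 1 else 0 : ℤ) : ℂ) := by rw [this]
      push_cast at h4
      simpa using h4
    rw [h3]
    split_ifs <;> simp
  rw [Finset.sum_congr rfl h2, Finset.sum_eq_single w0]
  · simp [hw0e]
  · intro w hw hne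
    rw [if_neg]
    intro h
    exact hne (huniq w hw h)
  · intro h
    exact absurd hw0 h

end Cfsg.Agent.Lib.Helper27.Stb
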